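import Groth.Agent.S14810
import Groth.Agent.CurveLib.Components
import Groth.Agent.CompleteCurve.ProjSpace

/-!
# A curve through a closed point finite over a curve in the base of a flat proper morphism
-/

set_option autoImplicit false
set_option backward.isDefEq.respectTransparency.types false
set_option backward.isDefEq.respectTransparency false
set_option linter.style.setOption false
set_option linter.style.haveILetI false

universe u

open CategoryTheory CategoryTheory.Limits AlgebraicGeometry TopologicalSpace

noncomputable section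

namespace Groth.Agent.S16203Aux

theorem main {k : Type u} [Field k] {Y Z : Scheme.{u}} (f : Y ⟶ Z) (g : Z ⟶ Spec (CommRingCat.of k))
    [Flat f] [IsProper f] [IsProper g]
    (B : Set Z) (hBc : IsClosed B) (hBi : IsIrreducible B) (hBd : topologicalKrullDim ↥B = 1)
    (p : Z) (hp : p ∈ B) (hpc : IsClosed ({p} : Set Z))
    (q : Y) (hqc : IsClosed ({q} : Set Y)) (hq : f q = p) :
    ∃ B' : Set Y, IsClosed B' ∧ IsIrreducible B' ∧ q ∈ B' ∧ f '' B' = B ∧
      ∀ z : Z, (B' ∩ f ⁻¹' {z}).Finite := by
  classical
  letI : Z.Over (Spec (CommRingCat.of k)) := ⟨g⟩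
  letI : Y.Over (Spec (CommRingCat.of k)) := ⟨f ≫ g⟩
  haveI : IsProper (Z ↘ Spec (CommRingCat.of k)) := ‹IsProper g›
  haveI : IsProper (Y ↘ Spec (CommRingCat.of k)) := inferInstanceAs (IsProper (f ≫ g))
  obtain ⟨δ, hδ⟩ := CycLib.exists_delta k Z
  obtain ⟨b, hb⟩ := QuasiSober.sober hBi hBc
  have hδb : δ b = 1 := (CycLib.delta_eq_one_iff k δ hδ b).2 (by
    have : closure ({b} : Set Z) = B := hb
    rw [this]; exact hBd)
  have hclosed : ∀ x ∈ B, x ≠ b → IsClosed ({x} : Set Z) := fun x hx hne => by
    refine (CycLib.delta_eq_zero_iff k δ hδ x).1 ?_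
    have h1 := ((CycLib.isSetup_of_field k δ hδ).2.2 b x (hb.specializes hx) (Ne.symm hne)).1
    obtain ⟨t, ht, -⟩ := CycLib.delta_dim k δ hδ x
    omega
  have hpb : p ≠ b := fun h => by
    rw [(CycLib.delta_eq_zero_iff k δ hδ b).2 (h ▸ hpc)] at hδb
    exact zero_ne_one hδb
  -- a component of the preimage of the curve through `q` dominating it
  obtain ⟨w, hwq, hwb⟩ := Flat.generalizingMap f (show b ⤳ f q by rw [hq]; exact hb.specializes hp)
  let C : Closeds Y := ⟨closure {w}, isClosed_closure⟩
  let I := Scheme.IdealSheafData.vanishingIdeal C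
  haveI : IsIntegral I.subscheme := CurveLib.isIntegral_vanishingIdeal isClosed_closure isIrreducible_singleton.closure
  letI : I.subscheme.Over (Spec (CommRingCat.of k)) := ⟨I.subschemeι ≫ f ≫ g⟩
  haveI : IsProper (I.subscheme ↘ Spec (CommRingCat.of k)) := inferInstanceAs (IsProper (I.subschemeι ≫ f ≫ g))
  have hrange : Set.range I.subschemeι = closure {w} := by
    rw [Scheme.IdealSheafData.range_subschemeι, Scheme.IdealSheafData.coe_support_vanishingIdeal]
    rfl
  obtain ⟨x, hx⟩ : q ∈ Set.range I.subschemeι := hrange ▸ specializes_iff_mem_closure.1 hwq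
  have hxc : IsClosed ({x} : Set I.subscheme) := by
    have : ({x} : Set I.subscheme) = I.subschemeι ⁻¹' {q} := by
      ext y
      simp only [Set.mem_singleton_iff, Set.mem_preimage]
      exact ⟨fun h => h ▸ hx, fun h => I.subschemeι.isClosedEmbedding.injective (h.trans hx.symm)⟩
    rw [this]
    exact hqc.preimage I.subschemeι.continuous
  have hgen : I.subschemeι (genericPoint I.subscheme) = w := by
    have h := (genericPoint_spec I.subscheme).image I.subschemeι.continuous
    rw [Set.image_univ, hrange, isClosed_closure.closure_eq] at h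
    exact h.eq isGenericPoint_closure
  let V : I.subscheme.Opens := ⟨(I.subschemeι ≫ f) ⁻¹' {p}ᶜ, hpc.isOpen_compl.preimage (I.subschemeι ≫ f).continuous⟩
  have hηV : genericPoint I.subscheme ∈ V := by
    show f (I.subschemeι (genericPoint I.subscheme)) ≠ p
    rw [hgen, hwb]
    exact hpb.symm
  obtain ⟨_, ⟨U, hU, rfl⟩, hxU, -⟩ := I.subscheme.isBasis_affineOpens.exists_subset_of_mem_open
    (Set.mem_univ x) isOpen_univ
  obtain ⟨a, ha, hηa⟩ := hU.exists_basicOpen_le ⟨genericPoint I.subscheme, hηV⟩
    ((genericPoint_specializes x).mem_open U.2 hxU)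
  have hxa : x ∉ I.subscheme.basicOpen a := fun h => by
    refine ha h ?_
    show f (I.subschemeι x) = p
    rw [hx, hq]
  obtain ⟨z, hzx, hza, hzd⟩ := S14810.exists_curve_through k hxc hU hxU a hxa hηa
  -- the curve and its image
  let z' : Y := I.subschemeι z
  have hz'q : z' ⤳ q := hx ▸ hzx.map I.subschemeι.continuous
  have hwz' : w ⤳ z' := specializes_iff_mem_closure.2 (hrange ▸ ⟨z, rfl⟩)
  have hbz : f z' = b := by
    by_contra hne
    have hmem : f z' ∈ B := hBc.stableUnderSpecialization (hwb ▸ hwz'.map f.continuous : b ⤳ f z') hb.mem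
    have h1 : f z' ⤳ p := hq ▸ hz'q.map f.continuous
    have h2 : f z' ≠ p := ha hza
    exact h2 ((hclosed _ hmem hne).stableUnderSpecialization h1 rfl).symm
  have hcl : closure ({z'} : Set Y) = I.subschemeι '' closure {z} := by
    rw [← I.subschemeι.isClosedEmbedding.closure_image_eq, Set.image_singleton]
  have hdY : topologicalKrullDim (closure ({z'} : Set Y)) = 1 := by
    rw [hcl, ← hzd]
    exact ((I.subschemeι.isClosedEmbedding.isEmbedding.homeomorphImage _).isHomeomorph.topologicalKrullDim_eq _).symm
  obtain ⟨δY, hδY⟩ := CycLib.exists_delta k Y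
  have hYclosed : ∀ y ∈ closure ({z'} : Set Y), y ≠ z' → IsClosed ({y} : Set Y) := fun y hy hne => by
    refine (CycLib.delta_eq_zero_iff k δY hδY y).1 ?_
    have h1 := ((CycLib.isSetup_of_field k δY hδY).2.2 z' y (specializes_iff_mem_closure.2 hy) (Ne.symm hne)).1
    obtain ⟨t, ht, -⟩ := CycLib.delta_dim k δY hδY y
    have := (CycLib.delta_eq_one_iff k δY hδY z').2 hdY
    omega
  refine ⟨closure {z'}, isClosed_closure, isIrreducible_singleton.closure, specializes_iff_mem_closure.1 hz'q, ?_,
    fun t => ?_⟩
  · refine le_antisymm ?_ ?_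
    · refine (image_closure_subset_closure_image f.continuous).trans ?_
      rw [Set.image_singleton, hbz, hb.def]
    · rw [← hb.def, ← hbz, ← Set.image_singleton]
      exact closure_minimal (Set.image_mono subset_closure) (f.isClosedMap _ isClosed_closure)
  · by_cases ht : t = b
    · refine (Set.finite_singleton z').subset fun y hy => ?_
      by_contra hne
      have h1 := f.isClosedMap _ (hYclosed y hy.1 hne)
      rw [Set.image_singleton, show f y = t from hy.2, ht] at h1
      exact hpb ((hb.specializes hp).mem_closed h1 rfl)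
    · by_cases htc : (closure {z'} ∩ f ⁻¹' {t}).Nonempty
      · obtain ⟨y, hy, hyt⟩ := htc
        have htB : t ∈ B := (show f y = t from hyt) ▸
          hBc.stableUnderSpecialization ((specializes_iff_mem_closure.2 hy).map f.continuous) (hbz ▸ hb.mem)
        have hTc : IsClosed (closure {z'} ∩ f ⁻¹' {t}) :=
          isClosed_closure.inter ((hclosed t htB ht).preimage f.continuous)
        haveI := EulerIneqLib.isNoetherian_proper (X := Y) k
        haveI : NoetherianSpace ↥(closure {z'} ∩ f ⁻¹' {t}) := inferInstance
        haveI : DiscreteTopology ↥(closure {z'} ∩ f ⁻¹' {t}) := by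
          haveI : T1Space ↥(closure {z'} ∩ f ⁻¹' {t}) := ⟨fun y => by
            have hne : (y : Y) ≠ z' := fun h => ht (by rw [← show f y.1 = t from y.2.2, h, hbz])
            have := (hYclosed y y.2.1 hne).preimage (continuous_subtype_val (p := (· ∈ closure {z'} ∩ f ⁻¹' {t})))
            convert this using 1
            ext v
            exact Subtype.ext_iff⟩
          haveI : Finite ↥(closure {z'} ∩ f ⁻¹' {t}) := by
            haveI : QuasiSober ↥(closure {z'} ∩ f ⁻¹' {t}) := hTc.isClosedEmbedding_subtypeVal.quasiSober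
            have hfin := NoetherianSpace.finite_irreducibleComponents (α := ↥(closure {z'} ∩ f ⁻¹' {t}))
            have hu : (Set.univ : Set ↥(closure {z'} ∩ f ⁻¹' {t})) ⊆ ⋃ C ∈ irreducibleComponents _, C := fun v _ =>
              Set.mem_biUnion (irreducibleComponent_mem_irreducibleComponents v) mem_irreducibleComponent
            refine Set.finite_univ_iff.1 ((hfin.biUnion fun C hC => ?_).subset hu)
            obtain ⟨c, hc⟩ := QuasiSober.sober hC.1 (isClosed_of_mem_irreducibleComponents C hC)
            rw [← hc.def, (isClosed_singleton (x := c)).closure_eq]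
            exact Set.finite_singleton c
          infer_instance
        exact Set.finite_coe_iff.1 (finite_of_compact_of_discrete)
      · rw [Set.not_nonempty_iff_eq_empty.1 htc]
        exact Set.finite_empty

end Groth.Agent.S16203Aux
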